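import Groth.Prelude.Def_W4c3irrattreebunCvg
import Mathlib.FieldTheory.AlgebraicClosure
import Mathlib.FieldTheory.IntermediateField.Adjoin.Algebra
import Mathlib.RingTheory.Algebraic.Integral

set_option autoImplicit false
universe u

open W4c3irrattreebun IntermediateField

namespace CovGon28

variable {k K : Type u} [Field k] [Field K] [Algebra k K]

/-- Restrict a diagram over the constants to a diagram over `k`. -/
theorem exists_down {e : ℕ} (D : CovDiag.{u} (algebraicClosure k K) K e) :
    ∃ D' : CovDiag.{u} k K e, (Algebra.IsSeparable K D.KC → Algebra.IsSeparable K D'.KC) := by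
  letI : Algebra k D.KC := ((algebraMap K D.KC).comp (algebraMap k K)).toAlgebra
  haveI : IsScalarTower k K D.KC := IsScalarTower.of_algebraMap_eq fun _ => rfl
  letI : Algebra k D.KB :=
    ((algebraMap (algebraicClosure k K) D.KB).comp (algebraMap k (algebraicClosure k K))).toAlgebra
  haveI : IsScalarTower k D.KB D.KC := IsScalarTower.of_algebraMap_eq fun x => by
    change algebraMap K D.KC (algebraMap k K x) =
      algebraMap D.KB D.KC (algebraMap (algebraicClosure k K) D.KB (algebraMap k _ x))
    rw [← @IsScalarTower.algebraMap_apply (algebraicClosure k K) D.KB D.KC _ _ _ D.algkB D.algBC D.algkC D.towerB,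
      @IsScalarTower.algebraMap_apply (algebraicClosure k K) K D.KC _ _ _ _ D.algKC D.algkC D.towerK]
    rfl
  exact ⟨{ KC := D.KC, KB := D.KB, t := D.t, transc := D.transc, finrank_eq := D.finrank_eq }, id⟩

/-- Enlarge the base field of a diagram by the constants. -/
theorem exists_up {e : ℕ} (D : CovDiag.{u} k K e) :
    ∃ e' ≤ e, ∃ D' : CovDiag.{u} (algebraicClosure k K) K e',
      (Algebra.IsSeparable K D.KC → Algebra.IsSeparable K D'.KC) := by
  let S : Set D.KC := Set.range ((algebraMap K D.KC).comp (algebraMap (algebraicClosure k K) K))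
  let E : IntermediateField D.KB D.KC := adjoin D.KB S
  have halgS : ∀ x ∈ S, IsIntegral D.KB x := by
    rintro _ ⟨y, rfl⟩
    have h1 : IsIntegral k (y : K) := ((mem_algebraicClosure_iff).mp y.2).isIntegral
    exact (h1.map (IsScalarTower.toAlgHom k K D.KC)).tower_top
  haveI : Algebra.IsAlgebraic D.KB E := isAlgebraic_adjoin halgS
  have ht : Transcendental E D.t := D.transc.extendScalars E
  letI : Algebra (algebraicClosure k K) E :=
    (((algebraMap K D.KC).comp (algebraMap (algebraicClosure k K) K)).codRestrict E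
      fun y => subset_adjoin D.KB S ⟨y, rfl⟩).toAlgebra
  haveI : IsScalarTower (algebraicClosure k K) E D.KC := IsScalarTower.of_algebraMap_eq fun _ => rfl
  let F : IntermediateField D.KB D.KC := adjoin D.KB {D.t}
  let F' : IntermediateField E D.KC := adjoin E {D.t}
  have hle : F ≤ F'.restrictScalars D.KB := adjoin_le_iff.mpr (by
    rintro x rfl; exact subset_adjoin E ({D.t} : Set D.KC) rfl)
  haveI : FiniteDimensional F D.KC := D.finiteT
  letI := (inclusion hle).toRingHom.toAlgebra
  haveI : IsScalarTower F (F'.restrictScalars D.KB) D.KC := IsScalarTower.of_algebraMap_eq fun _ => rfl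
  haveI hfin : Module.Finite (F'.restrictScalars D.KB) D.KC := Module.Finite.right F _ _
  have hrk : Module.finrank (F'.restrictScalars D.KB) D.KC ≤ e :=
    (finrank_le_of_le_left hle).trans D.finrank_eq.le
  haveI : Module.Finite F' D.KC := hfin
  exact ⟨Module.finrank F' D.KC, hrk,
    { KC := D.KC, KB := E, t := D.t, transc := ht, finrank_eq := rfl }, id⟩

/-- Comparison of infima. -/
theorem sInf_eq {p q : ℕ → Prop} (h1 : ∀ e, q e → p e) (h2 : ∀ e, p e → ∃ e' ≤ e, q e') :
    sInf {e | p e} = sInf {e | q e} := by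
  rcases Set.eq_empty_or_nonempty {e | p e} with hp | ⟨e, he⟩
  · have : {e | q e} = (∅ : Set ℕ) :=
      Set.eq_empty_iff_forall_notMem.mpr fun e he => (Set.eq_empty_iff_forall_notMem.mp hp) e (h1 e he)
    rw [hp, this]
  · obtain ⟨e', -, he'⟩ := h2 e he
    apply le_antisymm (Nat.sInf_le (h1 _ (Nat.sInf_mem ⟨e', he'⟩)))
    obtain ⟨e'', hle, he''⟩ := h2 _ (Nat.sInf_mem ⟨e, he⟩)
    exact (Nat.sInf_le he'').trans hle

theorem cvg_eq : cvg k K = cvg (algebraicClosure k K) K :=
  sInf_eq (fun _ ⟨D⟩ => ⟨(exists_down D).choose⟩)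
    fun _ ⟨D⟩ => let ⟨e', hle, D', _⟩ := exists_up D; ⟨e', hle, ⟨D'⟩⟩

theorem scvg_eq : scvg k K = scvg (algebraicClosure k K) K :=
  sInf_eq (fun _ ⟨D, h⟩ => let ⟨D', h'⟩ := exists_down D; ⟨D', h' h⟩)
    fun _ ⟨D, h⟩ => let ⟨e', hle, D', h'⟩ := exists_up D; ⟨e', hle, D', h' h⟩

end CovGon28
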